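import Cfsg.Agent.Comp.Pres
import Cfsg.Agent.Comp.M11.Rels
import Cfsg.Agent.Comp.M11.ED

set_option autoImplicit false
set_option maxRecDepth 1000000
set_option maxHeartbeats 0
set_option Elab.async false

namespace CF.Comp.M11

theorem e1_all : Cov e1_F 40 4 0 := by
  have h := Cov.zero e1_F 40
  have h := h.blk (b := 40) e1_k0_0 rfl
  have h := h.next (y := 1) rfl rfl
  have h := h.blk (b := 40) e1_k1_0 rfl
  have h := h.next (y := 2) rfl rfl
  have h := h.blk (b := 40) e1_k2_0 rfl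
  have h := h.next (y := 3) rfl rfl
  have h := h.blk (b := 40) e1_k3_0 rfl
  have h := h.next (y := 4) rfl rfl
  exact h

theorem e1 : Enum rels [[1, 3]] (gensW 2) 720 :=
  ⟨e1_cols, e1_ch, e1_L, e1_H, e1_pb.1, e1_e.get, [(nat_lit 0), (nat_lit 1), (nat_lit 3), (nat_lit 4)], (nat_lit 1), (nat_lit 2), e1_rots, e1_hcs,
    (nat_lit 721), (nat_lit 4), (nat_lit 4096), (nat_lit 128), (nat_lit 524288), (nat_lit 262143), (nat_lit 8), (nat_lit 255), (nat_lit 26), (nat_lit 67108863), (nat_lit 10), (nat_lit 40),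
    fun _ _ => rfl, fun _ => rfl, fun _ _ => rfl, by decide +kernel, e1_all.1⟩

theorem e0_all : Cov e0_F 4 4 0 := by
  have h := Cov.zero e0_F 4
  have h := h.blk (b := 4) e0_k0_0 rfl
  have h := h.next (y := 1) rfl rfl
  have h := h.blk (b := 4) e0_k1_0 rfl
  have h := h.next (y := 2) rfl rfl
  have h := h.blk (b := 4) e0_k2_0 rfl
  have h := h.next (y := 3) rfl rfl
  have h := h.blk (b := 4) e0_k3_0 rfl
  have h := h.next (y := 4) rfl rfl
  exact h

theorem e0 : Enum (lapp [[1]] rels) [] (gensW 2) 1 :=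
  ⟨e0_cols, e0_ch, e0_L, e0_H, e0_pb.1, e0_e.get, [(nat_lit 0), (nat_lit 1), (nat_lit 3), (nat_lit 4)], (nat_lit 1), (nat_lit 2), e0_rots, e0_hcs,
    (nat_lit 2), (nat_lit 4), (nat_lit 8), (nat_lit 16), (nat_lit 128), (nat_lit 511), (nat_lit 8), (nat_lit 255), (nat_lit 10), (nat_lit 1023), (nat_lit 1), (nat_lit 4),
    fun _ _ => rfl, fun _ => rfl, fun _ _ => rfl, by decide +kernel, e0_all.1⟩


end CF.Comp.M11
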