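import Cfsg.Agent.Comp.Defs

set_option autoImplicit false
set_option maxRecDepth 1000000
set_option maxHeartbeats 0
set_option Elab.async false

namespace CF.Comp.M11

noncomputable def N0_0 : Net := (Net.cons (nat_lit 1) (nat_lit 336) (Net.cons (nat_lit 2) (nat_lit 48) (Net.cons (nat_lit 4) (nat_lit 2) (Net.cons (nat_lit 8) (nat_lit 2) (Net.cons (nat_lit 4) (nat_lit 6) (Net.cons (nat_lit 2) (nat_lit 306) (Net.cons (nat_lit 1) (nat_lit 336) Net.nil)))))))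
noncomputable def N0_1 : Net := (Net.cons (nat_lit 1) (nat_lit 320) (Net.cons (nat_lit 2) (nat_lit 16) (Net.cons (nat_lit 4) (nat_lit 1) (Net.cons (nat_lit 8) (nat_lit 1) (Net.cons (nat_lit 4) (nat_lit 13) (Net.cons (nat_lit 2) (nat_lit 17) (Net.cons (nat_lit 1) (nat_lit 257) Net.nil)))))))
noncomputable def N0 : List Net := [N0_0, N0_1]
noncomputable def N1_0 : Net := (Net.cons (nat_lit 1) (nat_lit 65) (Net.cons (nat_lit 2) (nat_lit 258) (Net.cons (nat_lit 4) (nat_lit 6) (Net.cons (nat_lit 8) (nat_lit 7) (Net.cons (nat_lit 4) (nat_lit 4) (Net.cons (nat_lit 2) (nat_lit 259) (Net.cons (nat_lit 1) (nat_lit 1) Net.nil)))))))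
noncomputable def N1_1 : Net := (Net.cons (nat_lit 1) (nat_lit 64) (Net.cons (nat_lit 2) (nat_lit 16) (Net.cons (nat_lit 4) (nat_lit 4) (Net.cons (nat_lit 8) (nat_lit 4) (Net.cons (nat_lit 4) (nat_lit 10) (Net.cons (nat_lit 2) (nat_lit 304) (Net.cons (nat_lit 1) (nat_lit 84) Net.nil)))))))
noncomputable def N1_2 : Net := (Net.cons (nat_lit 1) (nat_lit 260) (Net.cons (nat_lit 4) (nat_lit 4) (Net.cons (nat_lit 8) (nat_lit 4) (Net.cons (nat_lit 4) (nat_lit 12) (Net.cons (nat_lit 2) (nat_lit 288) (Net.cons (nat_lit 1) (nat_lit 20) Net.nil))))))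
noncomputable def N1_3 : Net := (Net.cons (nat_lit 1) (nat_lit 20) (Net.cons (nat_lit 4) (nat_lit 5) (Net.cons (nat_lit 8) (nat_lit 5) (Net.cons (nat_lit 4) (nat_lit 1) (Net.cons (nat_lit 2) (nat_lit 272) (Net.cons (nat_lit 1) (nat_lit 324) Net.nil))))))
noncomputable def N1_4 : Net := (Net.cons (nat_lit 1) (nat_lit 4) (Net.cons (nat_lit 2) (nat_lit 48) (Net.cons (nat_lit 4) (nat_lit 2) (Net.cons (nat_lit 8) (nat_lit 6) (Net.cons (nat_lit 4) (nat_lit 6) (Net.cons (nat_lit 2) (nat_lit 48) (Net.cons (nat_lit 1) (nat_lit 340) Net.nil)))))))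
noncomputable def N1_5 : Net := (Net.cons (nat_lit 1) (nat_lit 320) (Net.cons (nat_lit 2) (nat_lit 290) (Net.cons (nat_lit 4) (nat_lit 1) (Net.cons (nat_lit 8) (nat_lit 3) (Net.cons (nat_lit 4) (nat_lit 3) (Net.cons (nat_lit 2) (nat_lit 18) (Net.cons (nat_lit 1) (nat_lit 320) Net.nil)))))))
noncomputable def N1 : List Net := [N1_0, N1_1, N1_2, N1_3, N1_4, N1_5]
noncomputable def N : List Net := lapp N0 N1
noncomputable def W : List (List Nat) := [[(nat_lit 4), (nat_lit 4), (nat_lit 1), (nat_lit 3), (nat_lit 3), (nat_lit 3), (nat_lit 3), (nat_lit 3), (nat_lit 3), (nat_lit 1)],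
  [(nat_lit 4), (nat_lit 1), (nat_lit 4), (nat_lit 1), (nat_lit 1), (nat_lit 1), (nat_lit 3)],
  [(nat_lit 6), (nat_lit 8), (nat_lit 6), (nat_lit 8)],
  [(nat_lit 7), (nat_lit 6), (nat_lit 7), (nat_lit 5), (nat_lit 8)],
  [(nat_lit 12)],
  [(nat_lit 9), (nat_lit 12), (nat_lit 10), (nat_lit 12), (nat_lit 10)]]
noncomputable def C : List Lvl := [⟨(nat_lit 0), [[(nat_lit 1)],
  [(nat_lit 3)]], (nat_lit 6)⟩,
  ⟨(nat_lit 1), [[(nat_lit 5)],
  [(nat_lit 7)]], (nat_lit 3)⟩,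
  ⟨(nat_lit 2), [[(nat_lit 9)],
  [(nat_lit 11)]], (nat_lit 4)⟩,
  ⟨(nat_lit 3), [[(nat_lit 13)],
  [(nat_lit 15)]], (nat_lit 2)⟩]
noncomputable def T : List Sub := [⟨[(nat_lit 4)], (nat_lit 2), (nat_lit 3)⟩]
noncomputable def pel : List Nat := [(nat_lit 3), (nat_lit 1), (nat_lit 3), (nat_lit 1), (nat_lit 3), (nat_lit 1), (nat_lit 3)]

end CF.Comp.M11
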