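import Cfsg.Agent.Comp.PG
import Cfsg.Agent.Comp.M11.Nets
import Cfsg.Agent.Comp.M11.E

set_option autoImplicit false
set_option maxRecDepth 1000000
set_option maxHeartbeats 0
set_option Elab.async false

namespace CF.Comp.M11

open MulAction

theorem bnd {K : Type*} [Group K] {g : ℕ → K} (hr : ∀ r ∈ rels, ev g r = 1) : Bound g (gensW 2) 7920 :=
  e1.bound hr (bound_cyc (k := 11) (hr _ (by decide +kernel)) (by decide))

theorem wf0 : Wf 11 N0 := wf_of_wfAll (by decide +kernel)

theorem slpN : Slp N 11 4 W 2 := slp_of_slpOK (by decide +kernel)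

theorem okC : chainOK N 11 C = true := by decide +kernel

theorem prodC : chainProd N 11 C = 7920 := by decide +kernel

theorem prels : ∀ r ∈ rels, ev (pg N0) r = 1 := pg_rels (wf0.relsOK (k := 4) (by decide) (by decide +kernel))

section
variable {K Ω : Type*} [Group K] [MulAction K Ω] {D : Dom Ω 11} {g : ℕ → K}

theorem exact_of (h : Reps D N0 g) (h1 : ∀ i, 2 ≤ i → g i = 1) (hr : ∀ r ∈ rels, ev g r = 1)
    (ht : clo g (gensW 2) = ⊤) : Exact D N (slp g W 2) C ⊤ :=
  ⟨h.extend (k := 4) (by decide) h1 slpN, by decide, okC, ht ▸ (bnd hr).1, fun _ _ => trivial,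
    prodC ▸ ht ▸ (bnd hr).2⟩

theorem simple_of (h : Reps D N0 g) (h1 : ∀ i, 2 ≤ i → g i = 1) (hr : ∀ r ∈ rels, ev g r = 1)
    (ht : clo g (gensW 2) = ⊤) : IsSimpleGroup K := by
  have hE := exact_of h h1 hr ht
  exact isSimpleGroup_of_top (Exact.isSimpleGroup (L := C.head (by simp [C])) (t := C.tail) hE (ts := T)
    (fun _ _ => trivial) (by decide +kernel) (by decide +kernel) (by decide +kernel) (p := 11) (a := 1)
    (r := 720) (by norm_num) prodC (by decide) (by decide +kernel)
    (e0.closure_pel (rels_slp (by decide +kernel) hr W) ((clo_slp (by decide +kernel) W).trans ht)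
      Subgroup.index_top trivial (hE.rels (rs := [wpow pel 11, wpow (lapp pel [1]) 11, wpow [1] 2])
      (fun _ _ => trivial) (by decide +kernel)) (by decide)) fun _ hs => ⟨1, hs.2⟩)

end

theorem exactP : Exact (pD N0 11) N (slp (pg N0) W 2) C ⊤ :=
  exact_of (pg_reps wf0) (pg_one rfl) prels (pg_top rfl)

theorem simpleP : IsSimpleGroup (PG N0) := simple_of (pg_reps wf0) (pg_one rfl) prels (pg_top rfl)

theorem cardP : Nat.card (PG N0) = 7920 := card_of_top (exactP.card.trans prodC)

/-- a nontrivial solution of the relations generates a copy of the group -/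
theorem exists_inj {K : Type*} [Group K] {g : ℕ → K} (hr : ∀ r ∈ rels, ev g r = 1) (h : ev g [1] ≠ 1) :
    ∃ φ : PG N0 →* K, Function.Injective φ ∧ φ.range = clo g (gensW 2) ∧
      ∀ w, wordIn (gensW 2) w = true → φ (ev (pg N0) w) = ev g w :=
  haveI := simpleP
  (bnd (ug_rels rels)).exists_inj prels (pg_top rfl) cardP hr (by decide +kernel) h

end CF.Comp.M11
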